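import Cfsg.Prelude.Def_Local
import Cfsg.Agent.Lib.Helper28.Components
import Cfsg.Agent.Lib.Helper27.Components

set_option autoImplicit false

namespace Cfsg.Agent.Lib.Helper70.STD

/-- a quasisimple subgroup is not contained in a subgroup whose elements commute -/
theorem qs_not_le_comm {G : Type*} [Group G] (L H : Subgroup G) (hq : Cfsg.IsQuasisimple L)
    (hcomm : ∀ x ∈ H, ∀ y ∈ H, x * y = y * x) : ¬ L ≤ H := by
  intro hLH
  apply Cfsg.Agent.Lib.Helper27.qs_comm_self_ne_bot hq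
  rw [Subgroup.commutator_eq_bot_iff_le_centralizer]
  intro x hx
  rw [Subgroup.mem_centralizer_iff]
  intro y hy
  exact hcomm y (hLH hy) x (hLH hx)

/-- ABS1 -/
theorem layer_eq_of_normal_qs {C : Type*} [Group C] [Finite C] (K₀ : Subgroup C) [K₀.Normal]
    (hq : Cfsg.IsQuasisimple K₀)
    (hcomm : ∀ x ∈ Subgroup.centralizer (K₀ : Set C), ∀ y ∈ Subgroup.centralizer (K₀ : Set C),
      x * y = y * x) : Cfsg.layer C = K₀ := by
  have hK : Cfsg.IsComponent K₀ := ⟨Subgroup.Normal.isSubnormal inferInstance, hq⟩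
  apply le_antisymm
  · rw [Cfsg.Agent.Lib.Helper27.layer_le_iff]
    intro L hL
    by_cases h : L = K₀
    · rw [h]
    · exfalso
      have hc := Cfsg.Agent.Lib.Helper27.comp_comm_of_ne hL hK h
      rw [Subgroup.commutator_eq_bot_iff_le_centralizer] at hc
      exact qs_not_le_comm L _ hL.2 hcomm hc
  · exact Cfsg.Agent.Lib.Helper27.comp_le_layer hK

/-- ABS2 -/
theorem comm_conj_ne_bot {G : Type*} [Group G] (L : Subgroup G) (hq : Cfsg.IsQuasisimple L)
    (hcomm : ∀ x ∈ Subgroup.centralizer (L : Set G), ∀ y ∈ Subgroup.centralizer (L : Set G),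
      x * y = y * x) (g : G) : ⁅L, L.map (MulAut.conj g).toMonoidHom⁆ ≠ ⊥ := by
  intro h
  rw [Subgroup.commutator_comm, Subgroup.commutator_eq_bot_iff_le_centralizer] at h
  have hq' : Cfsg.IsQuasisimple (L.map (MulAut.conj g).toMonoidHom) :=
    Cfsg.Agent.Lib.Helper28.isQuasisimple_of_equiv ((MulAut.conj g).subgroupMap L) hq
  exact qs_not_le_comm _ _ hq' hcomm h

/-- ABS3 -/
theorem normalizer_le_normalizer_centralizer {G : Type*} [Group G] (L : Subgroup G) :
    Subgroup.normalizer (L : Set G) ≤ Subgroup.normalizer (Subgroup.centralizer (L : Set G) : Set G) := by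
  have key : ∀ g ∈ Subgroup.normalizer (L : Set G), ∀ x ∈ Subgroup.centralizer (L : Set G),
      g * x * g⁻¹ ∈ Subgroup.centralizer (L : Set G) := by
    intro g hg x hx
    rw [Subgroup.mem_centralizer_iff] at hx ⊢
    intro l hl
    have hl' : g⁻¹ * l * g⁻¹⁻¹ ∈ L := (Subgroup.mem_normalizer_iff.mp (inv_mem hg) l).1 hl
    have := hx _ hl'
    calc l * (g * x * g⁻¹) = g * ((g⁻¹ * l * g⁻¹⁻¹) * x) * g⁻¹ := by group
      _ = g * (x * (g⁻¹ * l * g⁻¹⁻¹)) * g⁻¹ := by rw [this]
      _ = g * x * g⁻¹ * l := by group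
  intro g hg
  rw [Subgroup.mem_normalizer_iff]
  intro x
  constructor
  · exact key g hg x
  · intro hx
    have := key g⁻¹ (inv_mem hg) _ hx
    have e : g⁻¹ * (g * x * g⁻¹) * g⁻¹⁻¹ = x := by group
    rwa [e] at this

end Cfsg.Agent.Lib.Helper70.STD
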