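import Cfsg.Agent.Lib.Helper70.STD.Defs

set_option autoImplicit false

namespace Cfsg.Agent.Lib.Helper70.STD

open Matrix

variable {F : Type*} [Field F]

theorem dg_apply (c : ℕ) (a b : F) (i j : Fin (c + 1)) :
    dg c a b i j = if i = j then (if i = Fin.last c then b else a) else 0 := by
  rw [dg, Matrix.diagonal_apply]

theorem mul_dg_apply {c : ℕ} (g : Matrix (Fin (c + 1)) (Fin (c + 1)) F) (a b : F) (i j : Fin (c + 1)) :
    (g * dg c a b) i j = g i j * (if j = Fin.last c then b else a) := by
  rw [dg, Matrix.mul_diagonal]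

theorem dg_mul_apply {c : ℕ} (g : Matrix (Fin (c + 1)) (Fin (c + 1)) F) (a b : F) (i j : Fin (c + 1)) :
    (dg c a b * g) i j = (if i = Fin.last c then b else a) * g i j := by
  rw [dg, Matrix.diagonal_mul]

/-- DET -/
theorem det_dg (c : ℕ) (a b : F) : (dg c a b).det = a ^ c * b := by
  rw [dg, Matrix.det_diagonal, Fin.prod_univ_castSucc]
  simp [Fin.castSucc_ne_last]

/-- BDDG : block diagonal matrices commute with `dg a b` -/
theorem bd_comm_dg {c : ℕ} (g : Matrix (Fin (c + 1)) (Fin (c + 1)) F) (hg : IsBD g) (a b : F) :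
    g * dg c a b = dg c a b * g := by
  ext i j
  rw [mul_dg_apply, dg_mul_apply]
  by_cases hi : i = Fin.last c <;> by_cases hj : j = Fin.last c
  · simp [hi, hj, mul_comm]
  · subst hi
    simp [(hg j hj).2]
  · subst hj
    simp [(hg i hi).1]
  · simp [hi, hj, mul_comm]

/-- CENT -/
theorem mem_cent_t {c : ℕ} (h2 : (2 : F) ≠ 0) (t : SpecialLinearGroup (Fin (c + 1)) F)
    (ht : t.1 = dg c (-1) 1) (g : SpecialLinearGroup (Fin (c + 1)) F) :
    g ∈ Subgroup.centralizer ({t} : Set (SpecialLinearGroup (Fin (c + 1)) F)) ↔ IsBD g.1 := by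
  rw [Subgroup.mem_centralizer_iff]
  constructor
  · intro h i hi
    have h1 : t.1 * g.1 = g.1 * t.1 := congrArg Subtype.val (h t rfl)
    rw [ht] at h1
    have key : ∀ x : F, -1 * x = x * 1 → x = 0 := by
      intro x hx
      have : (2 : F) * x = 0 := by linear_combination -hx
      rcases mul_eq_zero.mp this with h | h
      · exact absurd h h2
      · exact h
    constructor
    · have := congrFun (congrFun h1 i) (Fin.last c)
      rw [mul_dg_apply, dg_mul_apply, if_neg hi, if_pos rfl] at this
      exact key _ this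
    · have := congrFun (congrFun h1 (Fin.last c)) i
      rw [mul_dg_apply, dg_mul_apply, if_neg hi, if_pos rfl] at this
      apply key
      linear_combination -this
  · intro h x hx
    rw [Set.mem_singleton_iff] at hx
    subst hx
    apply Subtype.ext
    show x.1 * g.1 = g.1 * x.1
    rw [ht]
    exact (bd_comm_dg g.1 h _ _).symm

/-- INV : the only involution of the form `dg a b` in `SL_{c+1}`, `c` even -/
theorem dg_invol {c : ℕ} (hc : Even c) (a b : F) (hdet : a ^ c * b = 1)
    (hsq : dg c a b * dg c a b = 1) (hne : dg c a b ≠ 1) : dg c a b = dg c (-1) 1 := by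
  rcases Nat.eq_zero_or_pos c with rfl | hpos
  · exfalso
    apply hne
    have hb : b = 1 := by simpa using hdet
    ext i j
    rw [dg_apply, Matrix.one_apply]
    have hi : i = Fin.last 0 := by apply Fin.ext; have := i.2; simp
    simp [hi, hb]
  have hne0 : (⟨0, by omega⟩ : Fin (c + 1)) ≠ Fin.last c := by
    intro h'
    have := congrArg Fin.val h'
    simp at this
    omega
  have ha2 : a * a = 1 := by
    have := congrFun (congrFun hsq ⟨0, by omega⟩) ⟨0, by omega⟩
    rw [mul_dg_apply, dg_apply, if_pos rfl, if_neg hne0, Matrix.one_apply_eq] at this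
    exact this
  obtain ⟨m, hm⟩ := hc
  have hac : a ^ c = 1 := by
    rw [hm, ← two_mul, pow_mul, pow_two, ha2, one_pow]
  have hb : b = 1 := by rw [hac, one_mul] at hdet; exact hdet
  have ha : a = 1 ∨ a = -1 := mul_self_eq_one_iff.mp ha2
  rcases ha with ha | ha
  · exfalso
    apply hne
    ext i j
    rw [dg_apply, Matrix.one_apply]
    simp [ha, hb]
  · rw [ha, hb]

end Cfsg.Agent.Lib.Helper70.STD
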