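import Cfsg.Agent.Lib.Helper70.STD.MemK

set_option autoImplicit false

namespace Cfsg.Agent.Lib.Helper70.STD

open Matrix Cfsg.Agent.Lib.Helper99

variable {F : Type*} [Field F]

theorem transv_mem_K {c : ℕ} (i j : Fin (c + 1)) (hij : i ≠ j) (hi : i ≠ Fin.last c) (hj : j ≠ Fin.last c) :
    (⟨Matrix.transvection i j (1 : F), Matrix.det_transvection_of_ne i j hij 1⟩ :
      SpecialLinearGroup (Fin (c + 1)) F) ∈ K c F := by
  refine (mem_K _).2 ⟨fun k hk => ⟨?_, ?_⟩, ?_⟩
  · show Matrix.transvection i j (1 : F) k (Fin.last c) = 0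
    rw [Matrix.transvection, Matrix.add_apply, Matrix.one_apply_ne hk,
      Matrix.single_apply_of_col_ne _ _ hj, add_zero]
  · show Matrix.transvection i j (1 : F) (Fin.last c) k = 0
    rw [Matrix.transvection, Matrix.add_apply, Matrix.one_apply_ne (Ne.symm hk),
      Matrix.single_apply_of_row_ne hi, add_zero]
  · show Matrix.transvection i j (1 : F) (Fin.last c) (Fin.last c) = 1
    rw [Matrix.transvection, Matrix.add_apply, Matrix.one_apply_eq,
      Matrix.single_apply_of_row_ne hi, add_zero]

/-- CENK -/
theorem mem_cent_K {c : ℕ} (hc : 2 ≤ c) (g : SpecialLinearGroup (Fin (c + 1)) F) :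
    g ∈ Subgroup.centralizer (K c F : Set (SpecialLinearGroup (Fin (c + 1)) F)) ↔
      ∃ a b : F, g.1 = dg c a b := by
  rw [Subgroup.mem_centralizer_iff]
  constructor
  · intro h
    have comm : ∀ i j : Fin (c + 1), i ≠ j → i ≠ Fin.last c → j ≠ Fin.last c →
        Matrix.single i j (1 : F) * g.1 = g.1 * Matrix.single i j (1 : F) := by
      intro i j hij hi hj
      have := congrArg Subtype.val (h _ (transv_mem_K (F := F) i j hij hi hj))
      have e : Matrix.transvection i j (1 : F) * g.1 = g.1 * Matrix.transvection i j (1 : F) := this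
      rw [Matrix.transvection, add_mul, mul_add, one_mul, mul_one] at e
      exact add_left_cancel e
    let i0 : Fin (c + 1) := ⟨0, by omega⟩
    let i1 : Fin (c + 1) := ⟨1, by omega⟩
    have hi0 : i0 ≠ Fin.last c := by
      intro h'; have := congrArg Fin.val h'; simp [i0] at this; omega
    have hi1 : i1 ≠ Fin.last c := by
      intro h'; have := congrArg Fin.val h'; simp [i1] at this; omega
    have h01 : i1 ≠ i0 := by
      intro h'; have := congrArg Fin.val h'; simp [i0, i1] at this
    -- another non-last index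
    have other : ∀ i : Fin (c + 1), ∃ j, i ≠ j ∧ j ≠ Fin.last c := by
      intro i
      by_cases hi : i = i0
      · exact ⟨i1, by rw [hi]; exact Ne.symm h01, hi1⟩
      · exact ⟨i0, hi, hi0⟩
    have col : ∀ r i : Fin (c + 1), i ≠ Fin.last c → r ≠ i → g.1 r i = 0 := by
      intro r i hi hr
      obtain ⟨j, hij, hj⟩ := other i
      have := congrFun (congrFun (comm i j hij hi hj) r) j
      rw [Matrix.mul_single_apply_same, Matrix.single_mul_apply_of_ne _ _ _ _ _ hr, mul_one] at this
      exact this.symm
    have rowz : ∀ j s : Fin (c + 1), j ≠ Fin.last c → s ≠ j → g.1 j s = 0 := by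
      intro j s hj hs
      obtain ⟨i, hji, hi⟩ := other j
      have := congrFun (congrFun (comm i j (Ne.symm hji) hi hj) i) s
      rw [Matrix.single_mul_apply_same, Matrix.mul_single_apply_of_ne _ _ _ _ _ hs, one_mul] at this
      exact this
    have diag : ∀ i j : Fin (c + 1), i ≠ j → i ≠ Fin.last c → j ≠ Fin.last c → g.1 i i = g.1 j j := by
      intro i j hij hi hj
      have := congrFun (congrFun (comm i j hij hi hj) i) j
      rw [Matrix.single_mul_apply_same, Matrix.mul_single_apply_same, one_mul, mul_one] at this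
      exact this.symm
    refine ⟨g.1 i0 i0, g.1 (Fin.last c) (Fin.last c), ?_⟩
    ext r s
    rw [dg_apply]
    by_cases hrs : r = s
    · subst hrs
      rw [if_pos rfl]
      by_cases hr : r = Fin.last c
      · rw [if_pos hr, hr]
      · rw [if_neg hr]
        by_cases hr0 : r = i0
        · rw [hr0]
        · exact diag r i0 hr0 hr hi0
    · rw [if_neg hrs]
      by_cases hs : s = Fin.last c
      · have hr : r ≠ Fin.last c := fun h => hrs (h.trans hs.symm)
        exact rowz r s hr (Ne.symm hrs)
      · exact col r s hs hrs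
  · rintro ⟨a, b, hab⟩ k hk
    apply Subtype.ext
    show k.1 * g.1 = g.1 * k.1
    rw [hab]
    exact bd_comm_dg k.1 ((mem_K k).1 hk).1 a b

end Cfsg.Agent.Lib.Helper70.STD
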