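import Cfsg.Prelude.Def_Local
import Cfsg.Agent.Lib.Helper99.BlockElt

set_option autoImplicit false

namespace Cfsg.Agent.Lib.Helper70.STD

open Matrix

variable {F : Type*} [Field F]

/-- the block subgroup `diag(SL_c, 1)` of `SL_{c+1}` -/
def K (c : ℕ) (F : Type*) [Field F] : Subgroup (SpecialLinearGroup (Fin (c + 1)) F) :=
  (Cfsg.Agent.Lib.Helper99.blockEmb (F := F) c 1).range

/-- block diagonal: last row and last column vanish off the diagonal -/
def IsBD {c : ℕ} (g : Matrix (Fin (c + 1)) (Fin (c + 1)) F) : Prop :=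
  ∀ i, i ≠ Fin.last c → g i (Fin.last c) = 0 ∧ g (Fin.last c) i = 0

/-- the diagonal matrix `diag(a,…,a,b)` -/
def dg (c : ℕ) (a b : F) : Matrix (Fin (c + 1)) (Fin (c + 1)) F :=
  Matrix.diagonal (fun i => if i = Fin.last c then b else a)

end Cfsg.Agent.Lib.Helper70.STD
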