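import Cfsg.Agent.Lib.Helper70.STD.Main
import Cfsg.Agent.Lib.Helper29.Cores
import Cfsg.Agent.Lib.Helper27.CompMap
import Cfsg.Agent.Lib.Helper44.LawBounds
import Cfsg.Prelude.Def_CaseTheorems

set_option autoImplicit false

namespace Cfsg.Agent.Lib.Helper70.STD

open Matrix Cfsg.Agent.Lib.Helper99

/-- ABS4 -/
theorem hasComponent_quot_oddCore {C : Type*} [Group C] [Finite C] (K₀ : Subgroup C) [hn : K₀.Normal]
    (hq : Cfsg.IsQuasisimple K₀) (z : C) (hz : z ∈ K₀) (hz2 : orderOf z = 2) :
    Cfsg.HasComponent (C ⧸ Cfsg.oddCore C) := by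
  refine ⟨K₀.map (QuotientGroup.mk' (Cfsg.oddCore C)), ?_, ?_⟩
  · have : (K₀.map (QuotientGroup.mk' (Cfsg.oddCore C))).Normal :=
      hn.map _ (QuotientGroup.mk'_surjective _)
    exact Subgroup.Normal.isSubnormal this
  · rcases Cfsg.Agent.Lib.Helper27.qs_map (QuotientGroup.mk' (Cfsg.oddCore C)) hq with h | h
    · exfalso
      have hle : K₀ ≤ Cfsg.oddCore C := by
        have := (Subgroup.map_eq_bot_iff K₀).mp h
        rwa [QuotientGroup.ker_mk'] at this
      have hodd := Cfsg.Agent.Lib.Helper29.odd_card_oddCore (G := C)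
      have hdvd : orderOf (⟨z, hle hz⟩ : Cfsg.oddCore C) ∣ Nat.card (Cfsg.oddCore C) := orderOf_dvd_natCard _
      rw [Subgroup.orderOf_mk, hz2] at hdvd
      exact (Nat.not_even_iff_odd.mpr hodd) (even_iff_two_dvd.mpr hdvd)
    · exact h

variable {F : Type*} [Field F]

theorem qs_K' [Fintype F] {c : ℕ} (hc : 2 ≤ c) (h : 3 ≤ c ∨ 4 ≤ Fintype.card F) : Cfsg.IsQuasisimple (K c F) := by
  by_cases h3 : 3 ≤ c
  · exact qs_K h3
  · have hc2 : c = 2 := by omega
    subst hc2
    have h4 : 4 ≤ Fintype.card F := by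
      rcases h with h | h
      · omega
      · exact h
    have hq : Cfsg.IsQuasisimple (SpecialLinearGroup (Fin 2) F) :=
      ⟨⟨Cfsg.Agent.Lib.Helper44.sl2_perfect F h4⟩,
        Matrix.ProjectiveSpecialLinearGroup.rank_two_simple (by rw [Nat.card_eq_fintype_card]; exact h4)⟩
    exact Cfsg.Agent.Lib.Helper28.isQuasisimple_of_equiv
      (MonoidHom.ofInjective (blockEmb_injective (F := F) 2 1)) hq

/-- matrix version of CENT -/
theorem bd_iff_comm {c : ℕ} (h2 : (2 : F) ≠ 0) (g : Matrix (Fin (c + 1)) (Fin (c + 1)) F) :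
    dg c (-1) 1 * g = g * dg c (-1) 1 ↔ IsBD g := by
  constructor
  · intro h1 i hi
    have key : ∀ x : F, -1 * x = x * 1 → x = 0 := by
      intro x hx
      have : (2 : F) * x = 0 := by linear_combination -hx
      rcases mul_eq_zero.mp this with h | h
      · exact absurd h h2
      · exact h
    constructor
    · have := congrFun (congrFun h1 i) (Fin.last c)
      rw [mul_dg_apply, dg_mul_apply, if_neg hi, if_pos rfl] at this
      exact key _ this
    · have := congrFun (congrFun h1 (Fin.last c)) i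
      rw [mul_dg_apply, dg_mul_apply, if_neg hi, if_pos rfl] at this
      apply key
      linear_combination -this
  · intro h
    exact (bd_comm_dg g h _ _).symm

theorem bd_inv' {c : ℕ} (g h : Matrix (Fin (c + 1)) (Fin (c + 1)) F) (e1 : g * h = 1) (e2 : h * g = 1)
    (hg : IsBD g) : IsBD h := by
  have h0 : g (Fin.last c) (Fin.last c) ≠ 0 := by
    intro h
    have := congrFun (congrFun e1 (Fin.last c)) (Fin.last c)
    rw [bd_mul_last _ _ hg, h, zero_mul, Matrix.one_apply_eq] at this
    exact zero_ne_one this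
  intro i hi
  constructor
  · have := congrFun (congrFun e2 i) (Fin.last c)
    rw [mul_bd_last _ _ hg, Matrix.one_apply_ne hi] at this
    exact (mul_eq_zero.mp this).resolve_right h0
  · have := congrFun (congrFun e1 (Fin.last c)) i
    rw [bd_mul_last _ _ hg, Matrix.one_apply_ne (Ne.symm hi)] at this
    exact (mul_eq_zero.mp this).resolve_left h0

/-- conjugating `K` by a block diagonal invertible matrix -/
theorem bd_conj_K' {c : ℕ} (g h : Matrix (Fin (c + 1)) (Fin (c + 1)) F) (e1 : g * h = 1) (e2 : h * g = 1)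
    (hg : IsBD g) (k : SpecialLinearGroup (Fin (c + 1)) F) (hk : k ∈ K c F) :
    ∃ k' ∈ K c F, k'.1 = g * k.1 * h := by
  obtain ⟨hkb, hk1⟩ := (mem_K k).1 hk
  have hh := bd_inv' g h e1 e2 hg
  have hdet : (g * k.1 * h).det = 1 := by
    rw [Matrix.det_mul, Matrix.det_mul, k.2, mul_one, ← Matrix.det_mul, e1, Matrix.det_one]
  refine ⟨⟨g * k.1 * h, hdet⟩, (mem_K _).2 ⟨bd_mul _ _ (bd_mul _ _ hg hkb) hh, ?_⟩, rfl⟩
  show ((g * k.1) * h) (Fin.last c) (Fin.last c) = 1
  rw [bd_mul_last _ _ (bd_mul _ _ hg hkb), bd_mul_last _ _ hg, hk1, mul_one, ← bd_mul_last _ _ hg, e1,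
    Matrix.one_apply_eq]

/-- an involution in `K` -/
theorem exists_invol_K {c : ℕ} (hc : 2 ≤ c) (h2 : (2 : F) ≠ 0) : ∃ z ∈ K c F, orderOf z = 2 := by
  let i0 : Fin (c + 1) := ⟨0, by omega⟩
  let i1 : Fin (c + 1) := ⟨1, by omega⟩
  have hi0 : i0 ≠ Fin.last c := by
    intro h'; have := congrArg Fin.val h'; simp [i0] at this; omega
  have hi1 : i1 ≠ Fin.last c := by
    intro h'; have := congrArg Fin.val h'; simp [i1] at this; omega
  have h01 : i1 ≠ i0 := by
    intro h'; have := congrArg Fin.val h'; simp [i0, i1] at this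
  let d : Fin (c + 1) → F := fun i => (if i = i0 then -1 else 1) * (if i = i1 then -1 else 1)
  have hdet : (Matrix.diagonal d).det = 1 := by
    rw [Matrix.det_diagonal, Finset.prod_mul_distrib, Finset.prod_ite_eq', Finset.prod_ite_eq']
    simp
  let z : SpecialLinearGroup (Fin (c + 1)) F := ⟨Matrix.diagonal d, hdet⟩
  refine ⟨z, (mem_K _).2 ⟨fun i hi => ⟨?_, ?_⟩, ?_⟩, ?_⟩
  · exact Matrix.diagonal_apply_ne _ hi
  · exact Matrix.diagonal_apply_ne _ (Ne.symm hi)
  · show Matrix.diagonal d (Fin.last c) (Fin.last c) = 1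
    rw [Matrix.diagonal_apply_eq]
    simp only [d, if_neg (Ne.symm hi0), if_neg (Ne.symm hi1), mul_one]
  · apply orderOf_eq_prime
    · rw [pow_two]
      apply Subtype.ext
      show Matrix.diagonal d * Matrix.diagonal d = 1
      rw [Matrix.diagonal_mul_diagonal, ← Matrix.diagonal_one]
      congr 1
      funext i
      simp only [d]
      split_ifs <;> simp
    · intro h
      have := congrFun (congrFun (congrArg Subtype.val h) i0) i0
      have e : Matrix.diagonal d i0 i0 = (1 : Matrix (Fin (c + 1)) (Fin (c + 1)) F) i0 i0 := this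
      rw [Matrix.diagonal_apply_eq, Matrix.one_apply_eq] at e
      simp only [d, if_neg (Ne.symm h01), mul_one, if_true] at e
      apply h2
      have : (2 : F) = 1 - (-1) := by ring
      rw [this, e]; ring

end Cfsg.Agent.Lib.Helper70.STD
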