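import Cfsg.Agent.Lib.Helper70.STD.GL1

set_option autoImplicit false

namespace Cfsg.Agent.Lib.Helper70.STD

open Matrix Cfsg.Agent.Lib.Helper99

variable {F : Type*} [Field F]

theorem dg_sq (c : ℕ) : dg c (-1 : F) 1 * dg c (-1 : F) 1 = 1 := by
  rw [dg, Matrix.diagonal_mul_diagonal, ← Matrix.diagonal_one]
  congr 1
  funext i
  split_ifs <;> simp

/-- the involution `diag(-1,…,-1,1)` of `GL_{c+1}` -/
def tGL (c : ℕ) (F : Type*) [Field F] : GeneralLinearGroup (Fin (c + 1)) F :=
  ⟨dg c (-1) 1, dg c (-1) 1, dg_sq c, dg_sq c⟩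

theorem mem_cent_tGL {c : ℕ} (h2 : (2 : F) ≠ 0) (g : GeneralLinearGroup (Fin (c + 1)) F) :
    g ∈ Subgroup.centralizer ({tGL c F} : Set (GeneralLinearGroup (Fin (c + 1)) F)) ↔ IsBD g.1 := by
  rw [Subgroup.mem_centralizer_iff, ← bd_iff_comm h2]
  constructor
  · intro h
    exact congrArg Units.val (h _ rfl)
  · intro h x hx
    rw [Set.mem_singleton_iff] at hx
    subst hx
    exact Units.ext h

theorem comp_type [Fintype F] [DecidableEq F] {c : ℕ} (hc : 2 ≤ c) (h : 3 ≤ c ∨ 4 ≤ Fintype.card F) (h2 : (2 : F) ≠ 0) :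
    orderOf (tGL c F) = 2 ∧ tGL c F ∉ Subgroup.center (GeneralLinearGroup (Fin (c + 1)) F) ∧
    Cfsg.HasComponent (↥(Subgroup.centralizer ({tGL c F} : Set (GeneralLinearGroup (Fin (c + 1)) F))) ⧸
      Cfsg.oddCore ↥(Subgroup.centralizer ({tGL c F} : Set (GeneralLinearGroup (Fin (c + 1)) F)))) := by
  refine ⟨?_, ?_, ?_⟩
  · apply orderOf_eq_prime
    · rw [pow_two]
      exact Units.ext (dg_sq c)
    · intro h1
      exact dg_ne_one (F := F) (c := c) (by omega) h2 (congrArg Units.val h1)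
  · intro hcen
    let i0 : Fin (c + 1) := ⟨0, by omega⟩
    have hi0 : i0 ≠ Fin.last c := by
      intro h'; have := congrArg Fin.val h'; simp [i0] at this; omega
    let s : SpecialLinearGroup (Fin (c + 1)) F :=
      ⟨Matrix.transvection i0 (Fin.last c) (1 : F), Matrix.det_transvection_of_ne _ _ hi0 1⟩
    have hs : SpecialLinearGroup.toGL s ∈
        Subgroup.centralizer ({tGL c F} : Set (GeneralLinearGroup (Fin (c + 1)) F)) := by
      rw [Subgroup.mem_centralizer_iff]
      intro x hx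
      rw [Set.mem_singleton_iff] at hx
      subst hx
      exact (Subgroup.mem_center_iff.mp hcen _).symm
    have hbd := (mem_cent_tGL h2 _).1 hs
    have := (hbd i0 hi0).1
    have e : Matrix.transvection i0 (Fin.last c) (1 : F) i0 (Fin.last c) = 0 := this
    rw [Matrix.transvection, Matrix.add_apply, Matrix.one_apply_ne hi0, Matrix.single_apply_same, zero_add] at e
    exact one_ne_zero e
  · set C := Subgroup.centralizer ({tGL c F} : Set (GeneralLinearGroup (Fin (c + 1)) F)) with hC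
    set K1 : Subgroup (GeneralLinearGroup (Fin (c + 1)) F) := (K c F).map SpecialLinearGroup.toGL with hK1
    have hKC : K1 ≤ C := by
      rintro _ ⟨k, hk, rfl⟩
      exact (mem_cent_tGL h2 _).2 ((mem_K k).1 hk).1
    have hn : (K1.subgroupOf C).Normal := by
      constructor
      intro k hk g
      rw [Subgroup.mem_subgroupOf] at hk ⊢
      obtain ⟨k0, hk0, hk0e⟩ := hk
      have hg := (mem_cent_tGL h2 g.1).1 g.2
      obtain ⟨k', hk', hk'e⟩ := bd_conj_K' g.1.1 (g.1⁻¹).1 (by
          rw [← Units.val_mul, mul_inv_cancel]; rfl) (by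
          rw [← Units.val_mul, inv_mul_cancel]; rfl) hg k0 hk0
      refine ⟨k', hk', ?_⟩
      apply Units.ext
      show k'.1 = g.1.1 * k.1.1 * (g.1⁻¹).1
      rw [hk'e, ← hk0e]
      rfl
    have hq1 : Cfsg.IsQuasisimple K1 :=
      Cfsg.Agent.Lib.Helper28.isQuasisimple_of_equiv
        ((K c F).equivMapOfInjective _ SpecialLinearGroup.toGL_injective) (qs_K' hc h)
    have hq : Cfsg.IsQuasisimple (K1.subgroupOf C) :=
      Cfsg.Agent.Lib.Helper28.isQuasisimple_of_equiv (Subgroup.subgroupOfEquivOfLe hKC).symm hq1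
    obtain ⟨z, hz, hz2⟩ := exists_invol_K (F := F) hc h2
    have hzK : SpecialLinearGroup.toGL z ∈ K1 := ⟨z, hz, rfl⟩
    have hfin : Finite C := inferInstance
    refine hasComponent_quot_oddCore (K1.subgroupOf C) hq ⟨SpecialLinearGroup.toGL z, hKC hzK⟩ ?_ ?_
    · rw [Subgroup.mem_subgroupOf]; exact hzK
    · rw [Subgroup.orderOf_mk, orderOf_injective _ SpecialLinearGroup.toGL_injective, hz2]

end Cfsg.Agent.Lib.Helper70.STD
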