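import Cfsg.Agent.Lib.Helper70.STD.MemK
import Cfsg.Agent.Lib.Helper47.SLn
import Cfsg.Agent.Lib.Helper28.Components

set_option autoImplicit false

namespace Cfsg.Agent.Lib.Helper70.STD

open Matrix Cfsg.Agent.Lib.Helper99

variable {F : Type*} [Field F]

/-- QSK -/
theorem qs_K {c : ℕ} (hc : 3 ≤ c) : Cfsg.IsQuasisimple (K c F) := by
  have h3 : 3 ≤ Fintype.card (Fin c) := by simpa using hc
  have hq : Cfsg.IsQuasisimple (SpecialLinearGroup (Fin c) F) :=
    ⟨⟨Cfsg.Agent.Lib.Helper47.commutator_SL_eq_top h3⟩, Cfsg.Agent.Lib.Helper47.isSimpleGroup_PSL h3⟩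
  exact Cfsg.Agent.Lib.Helper28.isQuasisimple_of_equiv
    (MonoidHom.ofInjective (blockEmb_injective (F := F) c 1)) hq

/-- TE2C -/
theorem odd_card_of_scalar [Finite F] {c : ℕ} (hc : Even c) (X : Subgroup (SpecialLinearGroup (Fin (c + 1)) F))
    (hX : ∀ x ∈ X, ∃ a : F, x.1 = dg c a a) : Odd (Nat.card X) := by
  have hfin : Finite (SpecialLinearGroup (Fin (c + 1)) F) := by
    have : Fintype F := Fintype.ofFinite F
    classical
    exact Subtype.finite
  by_contra hodd
  rw [Nat.not_odd_iff_even, even_iff_two_dvd] at hodd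
  obtain ⟨x, hx⟩ := exists_prime_orderOf_dvd_card' (G := X) 2 hodd
  obtain ⟨a, ha⟩ := hX x.1 x.2
  have hdet : a ^ c * a = 1 := by rw [← det_dg, ← ha]; exact x.1.2
  have hx2 : x.1.1 * x.1.1 = 1 := by
    have : x ^ 2 = 1 := by rw [← hx]; exact pow_orderOf_eq_one x
    rw [pow_two] at this
    exact congrArg (fun y : X => y.1.1) this
  have ha2 : a * a = 1 := by
    have := congrFun (congrFun hx2 (Fin.last c)) (Fin.last c)
    rw [ha, mul_dg_apply, dg_apply, if_pos rfl, if_pos rfl, Matrix.one_apply_eq] at this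
    exact this
  obtain ⟨m, hm⟩ := hc
  have hac : a ^ c = 1 := by
    rw [hm, ← two_mul, pow_mul, pow_two, ha2, one_pow]
  have ha1 : a = 1 := by rw [hac, one_mul] at hdet; exact hdet
  have hx1 : x = 1 := by
    apply Subtype.ext
    apply Subtype.ext
    rw [ha, ha1]
    ext i j
    rw [dg_apply]
    show _ = (1 : Matrix (Fin (c + 1)) (Fin (c + 1)) F) i j
    rw [Matrix.one_apply]
    simp
  rw [hx1, orderOf_one] at hx
  omega

/-- TE2A -/
theorem bd_of_conj {c : ℕ} (hc : 2 ≤ c) (g : SpecialLinearGroup (Fin (c + 1)) F) (a b a' b' : F)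
    (hab : a ≠ b) (hdet : a ^ c * b = 1) (hdet' : a' ^ c * b' = 1)
    (h : g.1 * dg c a' b' = dg c a b * g.1) : IsBD g.1 := by
  have ent : ∀ i j, g.1 i j * (if j = Fin.last c then b' else a') = (if i = Fin.last c then b else a) * g.1 i j := by
    intro i j
    have := congrFun (congrFun h i) j
    rwa [mul_dg_apply, dg_mul_apply] at this
  have haa : a' = a := by
    by_contra hne
    have hz : ∀ i j, i ≠ Fin.last c → j ≠ Fin.last c → g.1 i j = 0 := by
      intro i j hi hj
      have := ent i j
      rw [if_neg hi, if_neg hj] at this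
      have h0 : g.1 i j * (a' - a) = 0 := by linear_combination this
      exact (mul_eq_zero.mp h0).resolve_right (sub_ne_zero.mpr hne)
    have e1 : g.1 * (g⁻¹).1 = 1 := congrArg Subtype.val (mul_inv_cancel g)
    have row : ∀ i k, i ≠ Fin.last c → g.1 i (Fin.last c) * (g⁻¹).1 (Fin.last c) k = (1 : Matrix (Fin (c + 1)) (Fin (c + 1)) F) i k := by
      intro i k hi
      rw [← e1, Matrix.mul_apply, Finset.sum_eq_single (Fin.last c)]
      · intro j _ hj
        rw [hz i j hi hj, zero_mul]
      · intro h; exact absurd (Finset.mem_univ _) h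
    let i0 : Fin (c + 1) := ⟨0, by omega⟩
    let i1 : Fin (c + 1) := ⟨1, by omega⟩
    have hi0 : i0 ≠ Fin.last c := by
      intro h'; have := congrArg Fin.val h'; simp [i0] at this; omega
    have hi1 : i1 ≠ Fin.last c := by
      intro h'; have := congrArg Fin.val h'; simp [i1] at this; omega
    have h01 : i1 ≠ i0 := by
      intro h'; have := congrArg Fin.val h'; simp [i0, i1] at this
    have r00 := row i0 i0 hi0
    have r10 := row i1 i0 hi1
    have r11 := row i1 i1 hi1
    rw [Matrix.one_apply_eq] at r00 r11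
    rw [Matrix.one_apply_ne h01] at r10
    rcases mul_eq_zero.mp r10 with hz1 | hz1
    · rw [hz1, zero_mul] at r11; exact zero_ne_one r11
    · rw [hz1, mul_zero] at r00; exact zero_ne_one r00
  have hbb : b' = b := by
    rw [haa] at hdet'
    have hac : a ^ c ≠ 0 := by
      intro h0; rw [h0, zero_mul] at hdet; exact zero_ne_one hdet
    exact mul_left_cancel₀ hac (hdet'.trans hdet.symm)
  intro i hi
  constructor
  · have := ent i (Fin.last c)
    rw [if_pos rfl, if_neg hi, hbb] at this
    have h0 : g.1 i (Fin.last c) * (b - a) = 0 := by linear_combination this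
    exact (mul_eq_zero.mp h0).resolve_right (sub_ne_zero.mpr (Ne.symm hab))
  · have := ent (Fin.last c) i
    rw [if_pos rfl, if_neg hi, haa] at this
    have h0 : g.1 (Fin.last c) i * (a - b) = 0 := by linear_combination this
    exact (mul_eq_zero.mp h0).resolve_right (sub_ne_zero.mpr hab)

end Cfsg.Agent.Lib.Helper70.STD
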