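import Cfsg.Agent.Lib.Helper70.STD.ABS
import Cfsg.Agent.Lib.Helper70.STD.Te
import Cfsg.Agent.Lib.Helper70.STD.CenK

set_option autoImplicit false
set_option linter.unusedSectionVars false

namespace Cfsg.Agent.Lib.Helper70.STD

open Matrix

variable {F : Type*} [Field F]

section main

variable [Finite F]

theorem cent_K_comm {c : ℕ} (hc : 2 ≤ c) :
    ∀ x ∈ Subgroup.centralizer (K c F : Set (SpecialLinearGroup (Fin (c + 1)) F)),
      ∀ y ∈ Subgroup.centralizer (K c F : Set (SpecialLinearGroup (Fin (c + 1)) F)), x * y = y * x := by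
  intro x hx y hy
  obtain ⟨a, b, hx⟩ := (mem_cent_K hc x).1 hx
  obtain ⟨a', b', hy⟩ := (mem_cent_K hc y).1 hy
  apply Subtype.ext
  show x.1 * y.1 = y.1 * x.1
  rw [hx, hy, dg, dg, Matrix.diagonal_mul_diagonal, Matrix.diagonal_mul_diagonal]
  congr 1
  funext i
  exact mul_comm _ _

theorem K_le_cent_t {c : ℕ} (h2 : (2 : F) ≠ 0) (t : SpecialLinearGroup (Fin (c + 1)) F)
    (ht : t.1 = dg c (-1) 1) :
    K c F ≤ Subgroup.centralizer ({t} : Set (SpecialLinearGroup (Fin (c + 1)) F)) := by
  intro k hk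
  exact (mem_cent_t h2 t ht k).2 ((mem_K k).1 hk).1

theorem layer_cent_t {c : ℕ} (hc : 3 ≤ c) (h2 : (2 : F) ≠ 0) (t : SpecialLinearGroup (Fin (c + 1)) F)
    (ht : t.1 = dg c (-1) 1) :
    (Cfsg.layer ↥(Subgroup.centralizer ({t} : Set (SpecialLinearGroup (Fin (c + 1)) F)))).map
      (Subgroup.centralizer ({t} : Set (SpecialLinearGroup (Fin (c + 1)) F))).subtype = K c F := by
  set C := Subgroup.centralizer ({t} : Set (SpecialLinearGroup (Fin (c + 1)) F)) with hC
  have hKC : K c F ≤ C := K_le_cent_t h2 t ht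
  have hn : ((K c F).subgroupOf C).Normal := by
    constructor
    intro k hk g
    rw [Subgroup.mem_subgroupOf] at hk ⊢
    exact bd_conj_K g.1 k.1 ((mem_cent_t h2 t ht g.1).1 g.2) hk
  have hq : Cfsg.IsQuasisimple ((K c F).subgroupOf C) :=
    Cfsg.Agent.Lib.Helper28.isQuasisimple_of_equiv (Subgroup.subgroupOfEquivOfLe hKC).symm (qs_K hc)
  have hcomm : ∀ x ∈ Subgroup.centralizer (((K c F).subgroupOf C : Subgroup C) : Set C),
      ∀ y ∈ Subgroup.centralizer (((K c F).subgroupOf C : Subgroup C) : Set C), x * y = y * x := by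
    have key : ∀ x ∈ Subgroup.centralizer (((K c F).subgroupOf C : Subgroup C) : Set C),
        x.1 ∈ Subgroup.centralizer (K c F : Set (SpecialLinearGroup (Fin (c + 1)) F)) := by
      intro x hx
      rw [Subgroup.mem_centralizer_iff] at hx ⊢
      intro k hk
      have := hx ⟨k, hKC hk⟩ (by
        show (⟨k, hKC hk⟩ : C) ∈ (K c F).subgroupOf C
        rw [Subgroup.mem_subgroupOf]; exact hk)
      exact congrArg Subtype.val this
    intro x hx y hy
    apply Subtype.ext
    exact cent_K_comm (by omega) x.1 (key x hx) y.1 (key y hy)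
  rw [layer_eq_of_normal_qs ((K c F).subgroupOf C) hq hcomm]
  exact Subgroup.map_subgroupOf_eq_of_le hKC

theorem t_mem_cent_K {c : ℕ} (hc : 2 ≤ c) (t : SpecialLinearGroup (Fin (c + 1)) F)
    (ht : t.1 = dg c (-1) 1) :
    t ∈ Subgroup.centralizer (K c F : Set (SpecialLinearGroup (Fin (c + 1)) F)) :=
  (mem_cent_K hc t).2 ⟨-1, 1, ht⟩

theorem bd_mem_cent_cent {c : ℕ} (hc : 2 ≤ c) (g : SpecialLinearGroup (Fin (c + 1)) F) (hg : IsBD g.1) :
    g ∈ Subgroup.centralizer
      (Subgroup.centralizer (K c F : Set (SpecialLinearGroup (Fin (c + 1)) F)) :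
        Set (SpecialLinearGroup (Fin (c + 1)) F)) := by
  rw [Subgroup.mem_centralizer_iff]
  intro h hh
  obtain ⟨a, b, hab⟩ := (mem_cent_K hc h).1 hh
  apply Subtype.ext
  show h.1 * g.1 = g.1 * h.1
  rw [hab]
  exact (bd_comm_dg g.1 hg a b).symm

theorem dg_ne_one {c : ℕ} (hc : 1 ≤ c) (h2 : (2 : F) ≠ 0) : dg c (-1 : F) 1 ≠ 1 := by
  intro h
  have h0 := congrFun (congrFun h ⟨0, by omega⟩) ⟨0, by omega⟩
  have hne : (⟨0, by omega⟩ : Fin (c + 1)) ≠ Fin.last c := by
    intro h'
    have := congrArg Fin.val h'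
    simp at this
    omega
  simp only [dg, Matrix.diagonal_apply_eq, Matrix.one_apply_eq, if_neg hne] at h0
  apply h2
  have : (2 : F) = 1 - (-1) := by ring
  rw [this, h0]; ring

theorem std_K {c : ℕ} (hc : 3 ≤ c) (hev : Even c) (h2 : (2 : F) ≠ 0)
    (t : SpecialLinearGroup (Fin (c + 1)) F) (ht : t.1 = dg c (-1) 1) :
    Cfsg.IsStandardSubgroup (K c F) := by
  have hc2 : 2 ≤ c := by omega
  have hfin : Finite (SpecialLinearGroup (Fin (c + 1)) F) := by
    have : Fintype F := Fintype.ofFinite F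
    classical
    exact Subtype.finite
  have htne : t ≠ 1 := by
    intro h
    apply dg_ne_one (F := F) (c := c) (by omega) h2
    rw [← ht, h]; rfl
  have htsq : t * t = 1 := by
    apply Subtype.ext
    show t.1 * t.1 = 1
    rw [ht, dg, Matrix.diagonal_mul_diagonal, ← Matrix.diagonal_one]
    congr 1
    funext i
    split_ifs <;> simp
  refine ⟨qs_K hc, ⟨?_, ?_⟩, ?_, ?_⟩
  · -- even order
    have ho : orderOf (⟨t, t_mem_cent_K hc2 t ht⟩ :
        Subgroup.centralizer (K c F : Set (SpecialLinearGroup (Fin (c + 1)) F))) = 2 := by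
      apply orderOf_eq_prime
      · apply Subtype.ext
        show t ^ 2 = 1
        rw [pow_two]; exact htsq
      · intro h
        exact htne (congrArg Subtype.val h)
    rw [even_iff_two_dvd, ← ho]
    exact orderOf_dvd_natCard _
  · intro g hg
    apply odd_card_of_scalar hev
    intro x hx
    obtain ⟨hx1, y, hy, hyx⟩ := hx
    obtain ⟨a, b, hab⟩ := (mem_cent_K hc2 x).1 hx1
    obtain ⟨a', b', hab'⟩ := (mem_cent_K hc2 y).1 hy
    by_cases heq : a = b
    · exact ⟨a, by rw [hab, heq]⟩
    · exfalso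
      apply hg
      have hd : a ^ c * b = 1 := by rw [← det_dg, ← hab]; exact x.2
      have hd' : a' ^ c * b' = 1 := by rw [← det_dg, ← hab']; exact y.2
      have hconj : g * y = x * g := by
        rw [← hyx]
        simp [MulAut.conj_apply]
      have hconj' : g.1 * dg c a' b' = dg c a b * g.1 := by
        rw [← hab, ← hab']
        exact congrArg Subtype.val hconj
      have hbd := bd_of_conj hc2 g a b a' b' heq hd hd' hconj'
      exact Subgroup.centralizer_le_normalizer _ (bd_mem_cent_cent hc2 g hbd)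
  · intro g _
    exact comm_conj_ne_bot (K c F) (qs_K hc) (cent_K_comm hc2) g
  · apply le_antisymm (normalizer_le_normalizer_centralizer _)
    intro g hg
    -- g t g⁻¹ is an involution in H
    have h1 : g * t * g⁻¹ ∈ Subgroup.centralizer (K c F : Set (SpecialLinearGroup (Fin (c + 1)) F)) :=
      (Subgroup.mem_normalizer_iff.mp hg t).1 (t_mem_cent_K hc2 t ht)
    obtain ⟨a, b, hab⟩ := (mem_cent_K hc2 _).1 h1
    have hd : a ^ c * b = 1 := by rw [← det_dg, ← hab]; exact (g * t * g⁻¹).2
    have hsq : (g * t * g⁻¹) * (g * t * g⁻¹) = 1 := by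
      have : (g * t * g⁻¹) * (g * t * g⁻¹) = g * (t * t) * g⁻¹ := by group
      rw [this, htsq]; group
    have hsq' : dg c a b * dg c a b = 1 := by
      rw [← hab]
      exact congrArg Subtype.val hsq
    have hne : dg c a b ≠ 1 := by
      rw [← hab]
      intro h
      have h' : g * t * g⁻¹ = 1 := Subtype.ext h
      apply htne
      have : t = g⁻¹ * (g * t * g⁻¹) * g := by group
      rw [this, h']; group
    have heq : g * t * g⁻¹ = t := by
      apply Subtype.ext
      rw [hab, ht]
      exact dg_invol hev a b hd hsq' hne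
    have hgC : g ∈ Subgroup.centralizer ({t} : Set (SpecialLinearGroup (Fin (c + 1)) F)) := by
      rw [Subgroup.mem_centralizer_iff]
      intro h hh
      rw [Set.mem_singleton_iff] at hh
      subst hh
      calc h * g = (g * h * g⁻¹) * g := by rw [heq]
        _ = g * h := by group
    have hbd := (mem_cent_t h2 t ht g).1 hgC
    have hbd' : IsBD (g⁻¹).1 := (mem_cent_t h2 t ht g⁻¹).1 (inv_mem hgC)
    rw [Subgroup.mem_normalizer_iff]
    intro k
    constructor
    · intro hk
      exact bd_conj_K g k hbd hk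
    · intro hk
      have := bd_conj_K g⁻¹ _ hbd' hk
      have e : g⁻¹ * (g * k * g⁻¹) * g⁻¹⁻¹ = k := by group
      rwa [e] at this

end main

end Cfsg.Agent.Lib.Helper70.STD
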