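import Cfsg.Agent.Lib.Helper70.STD.Basic

set_option autoImplicit false

namespace Cfsg.Agent.Lib.Helper70.STD

open Matrix Cfsg.Agent.Lib.Helper99

variable {F : Type*} [Field F]

theorem natAdd_zero_eq_last (c : ℕ) : Fin.natAdd c (0 : Fin 1) = Fin.last c := by
  apply Fin.ext; simp

theorem blockMat_last_right (c : ℕ) (A : Matrix (Fin c) (Fin c) F) (i : Fin (c + 1)) :
    blockMat c 1 A i (Fin.last c) = if i = Fin.last c then 1 else 0 := by
  rw [← natAdd_zero_eq_last, blockMat_natAdd_right]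

theorem blockMat_last_left (c : ℕ) (A : Matrix (Fin c) (Fin c) F) (j : Fin (c + 1)) :
    blockMat c 1 A (Fin.last c) j = if j = Fin.last c then 1 else 0 := by
  refine Fin.lastCases ?_ (fun j' => ?_) j
  · rw [blockMat_last_right]
  · have h1 : (Fin.castSucc j') = Fin.castAdd 1 j' := rfl
    have h2 : Fin.castSucc j' ≠ Fin.last c := Fin.castSucc_ne_last j'
    rw [if_neg h2, ← natAdd_zero_eq_last, h1]
    simp [blockMat]

theorem blockMat_castSucc (c : ℕ) (A : Matrix (Fin c) (Fin c) F) (i j : Fin c) :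
    blockMat c 1 A (Fin.castSucc i) (Fin.castSucc j) = A i j :=
  blockMat_castAdd c 1 A i j

/-- MEMK -/
theorem mem_K {c : ℕ} (g : SpecialLinearGroup (Fin (c + 1)) F) :
    g ∈ K c F ↔ IsBD g.1 ∧ g.1 (Fin.last c) (Fin.last c) = 1 := by
  constructor
  · rintro ⟨A, rfl⟩
    refine ⟨fun i hi => ⟨?_, ?_⟩, ?_⟩
    · show blockMat c 1 A.1 i (Fin.last c) = 0
      rw [blockMat_last_right, if_neg hi]
    · show blockMat c 1 A.1 (Fin.last c) i = 0
      rw [blockMat_last_left, if_neg hi]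
    · show blockMat c 1 A.1 (Fin.last c) (Fin.last c) = 1
      rw [blockMat_last_right, if_pos rfl]
  · rintro ⟨hbd, h1⟩
    have hg : g.1 = blockMat c 1 (g.1.submatrix Fin.castSucc Fin.castSucc) := by
      ext i j
      refine Fin.lastCases ?_ (fun j' => ?_) j
      · rw [blockMat_last_right]
        by_cases hi : i = Fin.last c
        · rw [if_pos hi, hi, h1]
        · rw [if_neg hi, (hbd i hi).1]
      · refine Fin.lastCases ?_ (fun i' => ?_) i
        · rw [blockMat_last_left, if_neg (Fin.castSucc_ne_last j'), (hbd _ (Fin.castSucc_ne_last j')).2]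
        · rw [blockMat_castSucc]; rfl
    have hdet : (g.1.submatrix Fin.castSucc Fin.castSucc).det = 1 := by
      rw [← blockMat_det c 1, ← hg]; exact g.2
    refine ⟨⟨_, hdet⟩, ?_⟩
    apply Subtype.ext
    exact hg.symm

theorem bd_mul_last {c : ℕ} (g h : Matrix (Fin (c + 1)) (Fin (c + 1)) F) (hg : IsBD g) (j : Fin (c + 1)) :
    (g * h) (Fin.last c) j = g (Fin.last c) (Fin.last c) * h (Fin.last c) j := by
  rw [Matrix.mul_apply, Finset.sum_eq_single (Fin.last c)]
  · intro k _ hk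
    rw [(hg k hk).2, zero_mul]
  · intro h; exact absurd (Finset.mem_univ _) h

theorem mul_bd_last {c : ℕ} (g h : Matrix (Fin (c + 1)) (Fin (c + 1)) F) (hh : IsBD h) (i : Fin (c + 1)) :
    (g * h) i (Fin.last c) = g i (Fin.last c) * h (Fin.last c) (Fin.last c) := by
  rw [Matrix.mul_apply, Finset.sum_eq_single (Fin.last c)]
  · intro k _ hk
    rw [(hh k hk).1, mul_zero]
  · intro h; exact absurd (Finset.mem_univ _) h

theorem bd_mul {c : ℕ} (g h : Matrix (Fin (c + 1)) (Fin (c + 1)) F) (hg : IsBD g) (hh : IsBD h) :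
    IsBD (g * h) := by
  intro i hi
  constructor
  · rw [mul_bd_last g h hh, (hg i hi).1, zero_mul]
  · rw [bd_mul_last g h hg, (hh i hi).2, mul_zero]

theorem bd_inv {c : ℕ} (g : SpecialLinearGroup (Fin (c + 1)) F) (hg : IsBD g.1) : IsBD (g⁻¹).1 := by
  have e1 : g.1 * (g⁻¹).1 = 1 := congrArg Subtype.val (mul_inv_cancel g)
  have e2 : (g⁻¹).1 * g.1 = 1 := congrArg Subtype.val (inv_mul_cancel g)
  have h0 : g.1 (Fin.last c) (Fin.last c) ≠ 0 := by
    intro h
    have := congrFun (congrFun e1 (Fin.last c)) (Fin.last c)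
    rw [bd_mul_last _ _ hg, h, zero_mul, Matrix.one_apply_eq] at this
    exact zero_ne_one this
  intro i hi
  constructor
  · have := congrFun (congrFun e2 i) (Fin.last c)
    rw [mul_bd_last _ _ hg, Matrix.one_apply_ne hi] at this
    exact (mul_eq_zero.mp this).resolve_right h0
  · have := congrFun (congrFun e1 (Fin.last c)) i
    rw [bd_mul_last _ _ hg, Matrix.one_apply_ne (Ne.symm hi)] at this
    exact (mul_eq_zero.mp this).resolve_left h0

/-- NORMK : block diagonal elements normalise `K` -/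
theorem bd_conj_K {c : ℕ} (g k : SpecialLinearGroup (Fin (c + 1)) F) (hg : IsBD g.1)
    (hk : k ∈ K c F) : g * k * g⁻¹ ∈ K c F := by
  obtain ⟨hkb, hk1⟩ := (mem_K k).1 hk
  have hgi := bd_inv g hg
  rw [mem_K]
  refine ⟨bd_mul _ _ (bd_mul _ _ hg hkb) hgi, ?_⟩
  show ((g.1 * k.1) * (g⁻¹).1) (Fin.last c) (Fin.last c) = 1
  rw [bd_mul_last _ _ (bd_mul _ _ hg hkb), bd_mul_last _ _ hg, hk1, mul_one, ← bd_mul_last _ _ hg]
  have e1 : g.1 * (g⁻¹).1 = 1 := congrArg Subtype.val (mul_inv_cancel g)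
  rw [e1, Matrix.one_apply_eq]

end Cfsg.Agent.Lib.Helper70.STD
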